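import Groth.Agent.LimModel.Main
import Groth.Agent.LimDesc.Descend
import Groth.Agent.LimMore.Smooth

/-!
`Spec A` as the limit of the spectra of the finitely generated subrings of `A`.
-/

set_option autoImplicit false
universe u
open CategoryTheory CategoryTheory.Limits AlgebraicGeometry

namespace Groth.Agent.LimModel

variable (A : Type u) [CommRing A]

/-- finitely generated subrings -/
abbrev FgSub : Type u := {B : Subalgebra ℤ A // B.FG}

instance : IsFiltered (FgSub A) := by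
  have : Nonempty (FgSub A) := ⟨⟨⊥, Subalgebra.fg_bot⟩⟩
  have : IsDirectedOrder (FgSub A) :=
    ⟨fun B C => ⟨⟨B.1 ⊔ C.1, B.2.sup C.2⟩, (le_sup_left : B.1 ≤ B.1 ⊔ C.1), (le_sup_right : C.1 ≤ B.1 ⊔ C.1)⟩⟩
  infer_instance

/-- the system of finitely generated subrings -/
def fgFunctor : FgSub A ⥤ CommRingCat.{u} where
  obj B := CommRingCat.of B.1
  map h := CommRingCat.ofHom (Subalgebra.inclusion (leOfHom h : _ ≤ _)).toRingHom

/-- the cocone of the system -/
def fgCocone : Cocone (fgFunctor A) where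
  pt := CommRingCat.of A
  ι := { app := fun B => CommRingCat.ofHom (algebraMap B.1 A) }

/-- the system has colimit `A` -/
noncomputable def fgIsColimit : IsColimit (fgCocone A) := by
  haveI : PreservesColimit (fgFunctor A) (forget CommRingCat.{u}) :=
    (inferInstance : PreservesFilteredColimits (forget CommRingCat.{u})).preserves_filtered_colimits _ |>.preservesColimit
  haveI : ReflectsColimit (fgFunctor A) (forget CommRingCat.{u}) := reflectsColimit_of_reflectsIsomorphisms _ _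
  refine isColimitOfReflects (forget CommRingCat.{u}) (Types.FilteredColimit.isColimitOf _ _ ?_ ?_)
  · intro x
    let B : FgSub A := ⟨Algebra.adjoin ℤ {(show A from x)}, by simpa using Subalgebra.fg_adjoin_finset (R := ℤ) ({(show A from x)} : Finset A)⟩
    exact ⟨B, ⟨(show A from x), Algebra.subset_adjoin (Set.mem_singleton _)⟩, rfl⟩
  · intro B C x y h
    let E : FgSub A := ⟨B.1 ⊔ C.1, B.2.sup C.2⟩
    exact ⟨E, homOfLE (le_sup_left : B.1 ≤ B.1 ⊔ C.1), homOfLE (le_sup_right : C.1 ≤ B.1 ⊔ C.1), Subtype.ext h⟩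

/-- the system of schemes -/
noncomputable def fgDiagram : (FgSub A)ᵒᵖ ⥤ Scheme.{u} := (fgFunctor A).op ⋙ Scheme.Spec

/-- its cone -/
noncomputable def fgCone : Cone (fgDiagram A) := Scheme.Spec.mapCone (fgCocone A).op

/-- the cone is a limit -/
noncomputable def fgIsLimit : IsLimit (fgCone A) := isLimitOfPreserves Scheme.Spec (fgIsColimit A).op

instance {i j : (FgSub A)ᵒᵖ} (f : i ⟶ j) : IsAffineHom ((fgDiagram A).map f) :=
  inferInstanceAs (IsAffineHom (Spec.map _))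

instance (i : (FgSub A)ᵒᵖ) : IsAffine ((fgDiagram A).obj i) := inferInstanceAs (IsAffine (Spec _))

/-- models over finitely generated subrings with a property -/
theorem exists_model_fg {X : Scheme.{u}} (f : X ⟶ Spec (CommRingCat.of A)) (P : MorphismProperty Scheme.{u})
    [P.IsStableUnderBaseChange] [P.RespectsIso] [LocallyOfFinitePresentation f] [QuasiCompact f] [QuasiSeparated f]
    (hP : ∀ {I : Type u} [SmallCategory I] [IsCofiltered I] (D : I ⥤ Scheme.{u}) [∀ {i j} (f : i ⟶ j), IsAffineHom (D.map f)]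
      {i₀ : I} (c : Cone D) (_ : IsLimit c) {X₀ Y₀ : Scheme.{u}} (f₀ : X₀ ⟶ Y₀) (g₀ : Y₀ ⟶ D.obj i₀)
      {X Y : Scheme.{u}} {f : X ⟶ Y} {g : Y ⟶ c.pt} {qY : Y ⟶ Y₀} {qX : X ⟶ X₀}
      (_ : IsPullback qY g g₀ (c.π.app i₀)) (_ : IsPullback qX f f₀ qY) [CompactSpace X₀]
      [LocallyOfFinitePresentation f₀], P f → ∃ j : Over i₀, P (LimDesc.stageMap D g₀ f₀ j))
    (h : P f) :
    ∃ A₀ : Subalgebra ℤ A, A₀.FG ∧ ∃ (X₀ : Scheme.{u}) (f₀ : X₀ ⟶ Spec (CommRingCat.of ↥A₀)) (g : X ⟶ X₀),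
      P f₀ ∧ LocallyOfFinitePresentation f₀ ∧ QuasiCompact f₀ ∧ IsPullback g f f₀ (Spec.map (CommRingCat.ofHom (algebraMap (↥A₀) A))) := by
  haveI : IsCofiltered (FgSub A)ᵒᵖ := isCofiltered_op_of_isFiltered _
  haveI : ∀ i : (FgSub A)ᵒᵖ, CompactSpace ((fgDiagram A).obj i) := fun i => inferInstance
  haveI : ∀ i : (FgSub A)ᵒᵖ, QuasiSeparatedSpace ((fgDiagram A).obj i) := fun i => inferInstance
  haveI : @LocallyOfFinitePresentation X (fgCone A).pt f := ‹LocallyOfFinitePresentation f›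
  haveI : @QuasiCompact X (fgCone A).pt f := ‹QuasiCompact f›
  haveI : @QuasiSeparated X (fgCone A).pt f := ‹QuasiSeparated f›
  obtain ⟨i, Xi, fi, g, h1, h2, h3, h4⟩ := exists_model (fgDiagram A) (fgCone A) (fgIsLimit A) (a := (f : X ⟶ (fgCone A).pt))
  have hY : IsPullback ((fgCone A).π.app i) (𝟙 (fgCone A).pt) (𝟙 ((fgDiagram A).obj i)) ((fgCone A).π.app i) :=
    IsPullback.id_vert _
  have : CompactSpace Xi := QuasiCompact.compactSpace_of_compactSpace fi
  obtain ⟨j, hj⟩ := hP (fgDiagram A) (fgCone A) (fgIsLimit A) fi (𝟙 _) hY h4 h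
  have hT := LimDesc.isPullback_stage (fgDiagram A) (𝟙 ((fgDiagram A).obj i)) j
  have hiso : IsIso (LimDesc.toStage (fgDiagram A) (𝟙 ((fgDiagram A).obj i)) j) := hT.isIso_snd_of_isIso
  have hXT := LimDesc.isPullback_stage (fgDiagram A) (fi ≫ 𝟙 _) j
  have hsq : IsPullback (LimDesc.proj (fgDiagram A) (fi ≫ 𝟙 _) (fgCone A) (LimDesc.isPullback_comp (fgDiagram A) (𝟙 _) (fgCone A) hY fi h4) j)
      (f ≫ 𝟙 (fgCone A).pt) (LimDesc.toStage (fgDiagram A) (fi ≫ 𝟙 _) j) ((fgCone A).π.app j.left) :=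
    LimDesc.isPullback_proj _ _ _ _ _
  have : LocallyOfFinitePresentation (fi ≫ 𝟙 ((fgDiagram A).obj i)) := by rw [Category.comp_id]; exact h1
  have : QuasiCompact (fi ≫ 𝟙 ((fgDiagram A).obj i)) := by rw [Category.comp_id]; exact h2
  refine ⟨j.left.unop.1, j.left.unop.2, LimDesc.stage (fgDiagram A) (fi ≫ 𝟙 _) j, LimDesc.toStage (fgDiagram A) (fi ≫ 𝟙 _) j,
    LimDesc.proj (fgDiagram A) (fi ≫ 𝟙 _) (fgCone A) (LimDesc.isPullback_comp (fgDiagram A) (𝟙 _) (fgCone A) hY fi h4) j,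
    ?_, MorphismProperty.of_isPullback (P := @LocallyOfFinitePresentation) hXT ‹_›,
    MorphismProperty.of_isPullback (P := @QuasiCompact) hXT ‹_›, ?_⟩
  · rw [← LimDesc.stageMap_toStage]
    exact MorphismProperty.RespectsIso.postcomp P (LimDesc.toStage (fgDiagram A) (𝟙 ((fgDiagram A).obj i)) j) _ hj
  · have e : f ≫ 𝟙 (fgCone A).pt = f := Category.comp_id f
    rw [e] at hsq
    exact hsq

end Groth.Agent.LimModel
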