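import Mathlib

/-!
Gluing two schemes along a common open subscheme.
-/

set_option autoImplicit false
universe u
open CategoryTheory CategoryTheory.Limits AlgebraicGeometry

namespace Groth.Agent.LimModel

variable {A U V : Scheme.{u}} (f : A ⟶ U) (g : A ⟶ V) [IsOpenImmersion f] [IsOpenImmersion g]

theorem isOpenImmersion_inl : IsOpenImmersion (pushout.inl f g) :=
  inferInstanceAs (IsOpenImmersion (colimit.ι (span f g) WalkingSpan.left))

theorem isOpenImmersion_inr : IsOpenImmersion (pushout.inr f g) :=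
  inferInstanceAs (IsOpenImmersion (colimit.ι (span f g) WalkingSpan.right))

theorem inl_range_sup_inr_range : Set.range (pushout.inl f g) ∪ Set.range (pushout.inr f g) = Set.univ := by
  refine Set.eq_univ_of_forall fun x => ?_
  obtain ⟨j, y, rfl⟩ := Scheme.IsLocallyDirected.ι_jointly_surjective (span f g) x
  obtain (_ | (_ | _)) := j
  · exact .inl ⟨f y, congr($((colimit.w (span f g) WalkingSpan.Hom.fst : _)) y)⟩
  · exact .inl ⟨y, rfl⟩
  · exact .inr ⟨y, rfl⟩

theorem exists_of_inl_eq_inr {x : U} {y : V} (h : pushout.inl f g x = pushout.inr f g y) :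
    ∃ a, f a = x ∧ g a = y := by
  obtain ⟨k, fi, fj, z, h1, h2⟩ := (Scheme.IsLocallyDirected.ι_eq_ι_iff (F := span f g) (i := WalkingSpan.left) (j := WalkingSpan.right)).1 h
  change WidePushoutShape.Hom k (some WalkingPair.left) at fi
  change WidePushoutShape.Hom k (some WalkingPair.right) at fj
  obtain (_ | (_ | _)) := k
  · cases fi; cases fj; exact ⟨z, h1, h2⟩
  · cases fj
  · cases fi

/-- a scheme covered by two quasi-compact quasi-separated opens with quasi-compact intersection is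
quasi-separated -/
theorem quasiSeparatedSpace_of_sup {P : Type*} [TopologicalSpace P] (U V : Set P) (hU : IsOpen U) (hV : IsOpen V)
    (hUq : IsQuasiSeparated U) (hVq : IsQuasiSeparated V) (hW : IsCompact (U ∩ V)) (huv : U ∪ V = Set.univ)
    (hbasis : ∀ A : Set P, IsOpen A → IsCompact A →
      ∃ A₁ A₂, IsOpen A₁ ∧ IsCompact A₁ ∧ A₁ ⊆ U ∧ IsOpen A₂ ∧ IsCompact A₂ ∧ A₂ ⊆ V ∧ A₁ ∪ A₂ = A) :
    QuasiSeparatedSpace P := by
  refine ⟨fun A B hA hA' hB hB' => ?_⟩
  obtain ⟨A₁, A₂, a1, a2, a3, a4, a5, a6, rfl⟩ := hbasis A hA hA'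
  obtain ⟨B₁, B₂, b1, b2, b3, b4, b5, b6, rfl⟩ := hbasis B hB hB'
  have hWo : IsOpen (U ∩ V) := hU.inter hV
  have mix : ∀ C D : Set P, IsOpen C → IsCompact C → C ⊆ U → IsOpen D → IsCompact D → D ⊆ V → IsCompact (C ∩ D) := by
    intro C D c1 c2 c3 d1 d2 d3
    have e : C ∩ D = (C ∩ (U ∩ V)) ∩ (D ∩ (U ∩ V)) := by
      ext x
      exact ⟨fun ⟨hc, hd⟩ => ⟨⟨hc, c3 hc, d3 hd⟩, hd, c3 hc, d3 hd⟩, fun h => ⟨h.1.1, h.2.1⟩⟩
    rw [e]
    exact hUq _ _ (Set.inter_subset_left.trans c3) (c1.inter hWo) (hUq _ _ c3 c1 c2 Set.inter_subset_left hWo hW)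
      (fun x hx => hx.2.1) (d1.inter hWo) (hVq _ _ d3 d1 d2 Set.inter_subset_right hWo hW)
  rw [Set.union_inter_distrib_right, Set.inter_union_distrib_left, Set.inter_union_distrib_left]
  exact ((hUq _ _ a3 a1 a2 b3 b1 b2).union (mix _ _ a1 a2 a3 b4 b5 b6)).union
    (((Set.inter_comm B₁ A₂) ▸ mix _ _ b1 b2 b3 a4 a5 a6).union (hVq _ _ a6 a4 a5 b6 b4 b5))

theorem quasiSeparatedSpace_pushout [QuasiSeparatedSpace U] [QuasiSeparatedSpace V] [CompactSpace A] :
    QuasiSeparatedSpace (pushout f g : Scheme.{u}) := by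
  have := isOpenImmersion_inl f g
  have := isOpenImmersion_inr f g
  have hA : Set.range (pushout.inl f g) ∩ Set.range (pushout.inr f g) = Set.range (f ≫ pushout.inl f g) := by
    ext x
    constructor
    · rintro ⟨⟨a, rfl⟩, ⟨b, hb⟩⟩
      obtain ⟨z, hz, -⟩ := exists_of_inl_eq_inr f g hb.symm
      exact ⟨z, by simp [← hz]⟩
    · rintro ⟨z, rfl⟩
      exact ⟨⟨f z, rfl⟩, ⟨g z, congr($((pushout.condition (f := f) (g := g)).symm) z)⟩⟩
  refine quasiSeparatedSpace_of_sup (Set.range (pushout.inl f g)) (Set.range (pushout.inr f g))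
    (pushout.inl f g).isOpenEmbedding.isOpen_range (pushout.inr f g).isOpenEmbedding.isOpen_range
    ?_ ?_ (hA ▸ isCompact_range (f ≫ pushout.inl f g).continuous) (inl_range_sup_inr_range f g) ?_
  · rw [← Set.image_univ]
    exact (IsQuasiSeparated.of_quasiSeparatedSpace _).image_of_isEmbedding (pushout.inl f g).isOpenEmbedding.isEmbedding
  · rw [← Set.image_univ]
    exact (IsQuasiSeparated.of_quasiSeparatedSpace _).image_of_isEmbedding (pushout.inr f g).isOpenEmbedding.isEmbedding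
  intro S hS hS'
  let P : Scheme.{u} := pushout f g
  let b : {W : P.affineOpens // ((W : P.Opens) : Set P) ⊆ Set.range (pushout.inl f g) ∨
      ((W : P.Opens) : Set P) ⊆ Set.range (pushout.inr f g)} → Set P := fun W => (W.1.1 : Set P)
  obtain ⟨t, htS, hfin, hcov⟩ := hS'.elim_finite_subcover_image (b := {W | b W ⊆ S}) (c := b) (fun W _ => W.1.1.2)
    (fun x hx => by
      rcases (inl_range_sup_inr_range f g).ge (Set.mem_univ x) with hxU | hxV
      · obtain ⟨_, ⟨W, hW, rfl⟩, hxW, hWs⟩ := P.isBasis_affineOpens.exists_subset_of_mem_open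
          (show x ∈ S ∩ Set.range (pushout.inl f g) from ⟨hx, hxU⟩)
          (hS.inter (pushout.inl f g).isOpenEmbedding.isOpen_range)
        exact Set.mem_iUnion₂.2 ⟨⟨⟨W, hW⟩, .inl fun y hy => (hWs hy).2⟩, fun y hy => (hWs hy).1, hxW⟩
      · obtain ⟨_, ⟨W, hW, rfl⟩, hxW, hWs⟩ := P.isBasis_affineOpens.exists_subset_of_mem_open
          (show x ∈ S ∩ Set.range (pushout.inr f g) from ⟨hx, hxV⟩)
          (hS.inter (pushout.inr f g).isOpenEmbedding.isOpen_range)
        exact Set.mem_iUnion₂.2 ⟨⟨⟨W, hW⟩, .inr fun y hy => (hWs hy).2⟩, fun y hy => (hWs hy).1, hxW⟩)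
  refine ⟨⋃ W ∈ {W ∈ t | b W ⊆ Set.range (pushout.inl f g)}, b W,
    ⋃ W ∈ {W ∈ t | b W ⊆ Set.range (pushout.inr f g)}, b W,
    isOpen_biUnion fun W _ => W.1.1.2, (hfin.subset (Set.sep_subset _ _)).isCompact_biUnion fun W _ => W.1.2.isCompact,
    Set.iUnion₂_subset fun W hW => hW.2, isOpen_biUnion fun W _ => W.1.1.2,
    (hfin.subset (Set.sep_subset _ _)).isCompact_biUnion fun W _ => W.1.2.isCompact,
    Set.iUnion₂_subset fun W hW => hW.2, subset_antisymm (Set.union_subset ?_ ?_) fun x hx => ?_⟩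
  · exact Set.iUnion₂_subset fun W hW => htS hW.1
  · exact Set.iUnion₂_subset fun W hW => htS hW.1
  · obtain ⟨W, hW, hxW⟩ := Set.mem_iUnion₂.1 (hcov hx)
    rcases W.2 with h | h
    · exact .inl (Set.mem_iUnion₂.2 ⟨W, ⟨hW, h⟩, hxW⟩)
    · exact .inr (Set.mem_iUnion₂.2 ⟨W, ⟨hW, h⟩, hxW⟩)

end Groth.Agent.LimModel
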