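import Groth.Agent.LimModel.Affine
import Groth.Agent.LimModel.Glue
import Groth.Agent.LimMore.Hom

/-!
Schemes of finite presentation over a cofiltered limit come from a stage.
-/

set_option autoImplicit false
universe u
open CategoryTheory CategoryTheory.Limits AlgebraicGeometry

namespace Groth.Agent.LimModel

open LimDesc

variable {I : Type u} [SmallCategory I] (D : I ⥤ Scheme.{u})

/-- the base change of a morphism over `D.obj i₀` -/
noncomputable def mapStage {i₀ : I} {P Q : Scheme.{u}} (h : P ⟶ Q) (p : P ⟶ D.obj i₀) (q : Q ⟶ D.obj i₀)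
    (w : h ≫ q = p) (j : Over i₀) : stage D p j ⟶ stage D q j :=
  pullback.lift (toBase D p j ≫ h) (toStage D p j) (by rw [Category.assoc, w]; exact (isPullback_stage D p j).w)

section
variable {i₀ : I} {P Q : Scheme.{u}} (h : P ⟶ Q) (p : P ⟶ D.obj i₀) (q : Q ⟶ D.obj i₀) (w : h ≫ q = p)

@[reassoc] theorem mapStage_toBase (j : Over i₀) : mapStage D h p q w j ≫ toBase D q j = toBase D p j ≫ h :=
  lift_toBase D q _ _ _

@[reassoc] theorem mapStage_toStage (j : Over i₀) : mapStage D h p q w j ≫ toStage D q j = toStage D p j :=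
  lift_toStage D q _ _ _

theorem isPullback_mapStage (j : Over i₀) :
    IsPullback (toBase D p j) (mapStage D h p q w j) h (toBase D q j) := by
  refine IsPullback.of_bot ?_ (mapStage_toBase D h p q w j).symm (isPullback_stage D q j)
  rw [mapStage_toStage, w]
  exact isPullback_stage D p j

variable (c : Cone D) {P' Q' : Scheme.{u}} {gP : P' ⟶ P} {p' : P' ⟶ c.pt} {gQ : Q' ⟶ Q} {q' : Q' ⟶ c.pt}
  (hP : IsPullback gP p' p (c.π.app i₀)) (hQ : IsPullback gQ q' q (c.π.app i₀))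

theorem proj_mapStage (r : P' ⟶ Q') (hr : r ≫ gQ = gP ≫ h) (hr' : r ≫ q' = p') (j : Over i₀) :
    proj D p c hP j ≫ mapStage D h p q w j = r ≫ proj D q c hQ j := by
  apply pullback.hom_ext
  · simp [mapStage_toBase, hr]
  · simp [mapStage_toStage, reassoc_of% hr']

end

variable [IsCofiltered I] [∀ {i j} (f : i ⟶ j), IsAffineHom (D.map f)]
  [∀ i, CompactSpace (D.obj i)] [∀ i, QuasiSeparatedSpace (D.obj i)]
variable (c : Cone D)

omit [IsCofiltered I] [∀ {i j} (f : i ⟶ j), IsAffineHom (D.map f)]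
  [∀ i, CompactSpace (D.obj i)] [∀ i, QuasiSeparatedSpace (D.obj i)] in
theorem HasModel.of_iso {U V : Scheme.{u}} {b : U ⟶ c.pt} (e : V ≅ U) (h : HasModel D c b) :
    HasModel D c (e.hom ≫ b) := by
  obtain ⟨j, Xj, fj, g, h1, h2, h3, h4⟩ := h
  exact ⟨j, Xj, fj, e.hom ≫ g, h1, h2, h3,
    h4.of_iso e.symm (Iso.refl _) (Iso.refl _) (Iso.refl _) (by simp) (by simp) (by simp) (by simp)⟩

variable (hc : IsLimit c) {X : Scheme.{u}} (a : X ⟶ c.pt)

include hc in
/-- the base case -/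
theorem hasModel_of_isAffineOpen [LocallyOfFinitePresentation a] {i : I} {W : (D.obj i).Opens}
    (hW : IsAffineOpen W) {V : X.Opens} (hV : IsAffineOpen V) (hVW : V ≤ a ⁻¹ᵁ (c.π.app i ⁻¹ᵁ W)) :
    HasModel D c (V.ι ≫ a) := by
  have (l : Over i) : IsAffine ((opensDiagram D i W).obj l) := hW.preimage (D.map l.hom)
  have := isAffineHom_π_app D c hc i
  have : IsAffine (opensCone D c i W).pt := hW.preimage (c.π.app i)
  have : IsAffine V.toScheme := hV
  let b : V.toScheme ⟶ (opensCone D c i W).pt := a.resLE _ V hVW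
  have : LocallyOfFinitePresentation b :=
    inferInstanceAs (LocallyOfFinitePresentation (a.resLE (c.π.app i ⁻¹ᵁ W) V hVW))
  obtain ⟨l, Xj, fl, g, hXj, hfl, hsq⟩ := exists_model_of_isAffine (opensDiagram D i W) (opensCone D c i W)
    (isLimitOpensCone D c hc i W) b
  let ιW : (opensDiagram D i W).obj l ⟶ D.obj l.left := (D.map l.hom ⁻¹ᵁ W).ι
  have : IsOpenImmersion ιW := inferInstanceAs (IsOpenImmersion (D.map l.hom ⁻¹ᵁ W).ι)
  have : @IsOpenImmersion (opensCone D c i W).pt c.pt (c.π.app i ⁻¹ᵁ W).ι :=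
    inferInstanceAs (IsOpenImmersion (c.π.app i ⁻¹ᵁ W).ι)
  have hbot : IsPullback ((opensCone D c i W).π.app l) (c.π.app i ⁻¹ᵁ W).ι ιW (c.π.app l.left) := by
    refine IsOpenImmersion.isPullback _ _ _ _ ?_ ?_
    · exact (Scheme.Hom.resLE_comp_ι _ _).symm
    · show c.π.app l.left ⁻¹ᵁ (D.map l.hom ⁻¹ᵁ W).ι.opensRange = (c.π.app i ⁻¹ᵁ W).ι.opensRange
      rw [Scheme.Opens.opensRange_ι, Scheme.Opens.opensRange_ι, ← Scheme.Hom.comp_preimage, c.w]
  refine ⟨l.left, Xj, fl ≫ ιW, g, inferInstance, quasiCompact_of_compactSpace _, QuasiSeparated.of_quasiSeparatedSpace _, ?_⟩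
  have h := hsq.paste_vert hbot
  rwa [show b ≫ (c.π.app i ⁻¹ᵁ W).ι = V.ι ≫ a from Scheme.Hom.resLE_comp_ι _ _] at h

omit [IsCofiltered I] [∀ i, CompactSpace (D.obj i)] [∀ i, QuasiSeparatedSpace (D.obj i)] in
theorem stage_props {i₀ : I} {P : Scheme.{u}} (p : P ⟶ D.obj i₀) [LocallyOfFinitePresentation p] [QuasiCompact p]
    [QuasiSeparated p] (j : Over i₀) :
    LocallyOfFinitePresentation (toStage D p j) ∧ QuasiCompact (toStage D p j) ∧ QuasiSeparated (toStage D p j) :=
  ⟨MorphismProperty.of_isPullback (isPullback_stage D p j) inferInstance,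
    MorphismProperty.of_isPullback (isPullback_stage D p j) inferInstance,
    MorphismProperty.of_isPullback (isPullback_stage D p j) inferInstance⟩

include hc in
/-- gluing two models whose overlap is visible at the stage -/
theorem hasModel_of_two_aux (U V : X.Opens) (huv : U ⊔ V = ⊤) {k : I} {Uk Vk : Scheme.{u}}
    (u : Uk ⟶ D.obj k) (v : Vk ⟶ D.obj k) [LocallyOfFinitePresentation u] [QuasiCompact u] [QuasiSeparated u]
    [LocallyOfFinitePresentation v] [QuasiCompact v] [QuasiSeparated v]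
    {gU : U.toScheme ⟶ Uk} {gV : V.toScheme ⟶ Vk}
    (hU : IsPullback gU (U.ι ≫ a) u (c.π.app k)) (hV : IsPullback gV (V.ι ≫ a) v (c.π.app k))
    (A : Uk.Opens) (B : Vk.Opens) (hAc : IsCompact (A : Set Uk)) (hBc : IsCompact (B : Set Vk))
    (hA : gU ⁻¹ᵁ A = U.ι ⁻¹ᵁ (U ⊓ V)) (hB : gV ⁻¹ᵁ B = V.ι ⁻¹ᵁ (U ⊓ V)) :
    HasModel D c a := by
  have hWU : (X.homOfLE (inf_le_left : U ⊓ V ≤ U)).opensRange = gU ⁻¹ᵁ A := by rw [hA, Scheme.opensRange_homOfLE]
  have hWV : (X.homOfLE (inf_le_right : U ⊓ V ≤ V)).opensRange = gV ⁻¹ᵁ B := by rw [hB, Scheme.opensRange_homOfLE]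
  let gA : (U ⊓ V).toScheme ⟶ A.toScheme :=
    IsOpenImmersion.lift A.ι (X.homOfLE (inf_le_left : U ⊓ V ≤ U) ≫ gU) (by
      rintro _ ⟨x, rfl⟩
      rw [Scheme.Opens.range_ι]
      exact (hWU.le ⟨x, rfl⟩ :))
  let gB : (U ⊓ V).toScheme ⟶ B.toScheme :=
    IsOpenImmersion.lift B.ι (X.homOfLE (inf_le_right : U ⊓ V ≤ V) ≫ gV) (by
      rintro _ ⟨x, rfl⟩
      rw [Scheme.Opens.range_ι]
      exact (hWV.le ⟨x, rfl⟩ :))
  have hgA : gA ≫ A.ι = X.homOfLE (inf_le_left : U ⊓ V ≤ U) ≫ gU := IsOpenImmersion.lift_fac _ _ _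
  have hgB : gB ≫ B.ι = X.homOfLE (inf_le_right : U ⊓ V ≤ V) ≫ gV := IsOpenImmersion.lift_fac _ _ _
  have hA' : IsPullback gA ((U ⊓ V).ι ≫ a) (A.ι ≫ u) (c.π.app k) := by
    have h := (IsOpenImmersion.isPullback gA (X.homOfLE (inf_le_left : U ⊓ V ≤ U)) A.ι gU hgA.symm
      (by rw [hWU, Scheme.Opens.opensRange_ι])).paste_vert hU
    rwa [Scheme.homOfLE_ι_assoc] at h
  have hB' : IsPullback gB ((U ⊓ V).ι ≫ a) (B.ι ≫ v) (c.π.app k) := by
    have h := (IsOpenImmersion.isPullback gB (X.homOfLE (inf_le_right : U ⊓ V ≤ V)) B.ι gV hgB.symm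
      (by rw [hWV, Scheme.Opens.opensRange_ι])).paste_vert hV
    rwa [Scheme.homOfLE_ι_assoc] at h
  have : CompactSpace Uk := QuasiCompact.compactSpace_of_compactSpace u
  have : CompactSpace Vk := QuasiCompact.compactSpace_of_compactSpace v
  have : QuasiSeparatedSpace Uk := quasiSeparatedSpace_of_quasiSeparated u
  have : QuasiSeparatedSpace Vk := quasiSeparatedSpace_of_quasiSeparated v
  have : CompactSpace A := isCompact_iff_compactSpace.mp hAc
  have : CompactSpace B := isCompact_iff_compactSpace.mp hBc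
  have : QuasiSeparatedSpace A := (isQuasiSeparated_iff_quasiSeparatedSpace _ A.2).mp (.of_quasiSeparatedSpace _)
  have : QuasiSeparatedSpace B := (isQuasiSeparated_iff_quasiSeparatedSpace _ B.2).mp (.of_quasiSeparatedSpace _)
  obtain ⟨j, φ, hφ, hφp⟩ := LimMore.exists_hom D c hc (A.ι ≫ u) (B.ι ≫ v) hA' hB' (𝟙 _) (Category.id_comp _)
  rw [Category.id_comp] at hφp
  have : LocallyOfFinitePresentation (toStage D (B.ι ≫ v) j) :=
    MorphismProperty.of_isPullback (isPullback_stage D (B.ι ≫ v) j) inferInstance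
  have hBq : CompactSpace (stage D (B.ι ≫ v) j) := compactSpace_stage D _ j
  have hBs : QuasiSeparatedSpace (stage D (B.ι ≫ v) j) := quasiSeparatedSpace_stage D _ j
  have : QuasiCompact (toStage D (B.ι ≫ v) j) := quasiCompact_of_compactSpace _
  have : QuasiSeparated (toStage D (B.ι ≫ v) j) := QuasiSeparated.of_quasiSeparatedSpace _
  have hAq : CompactSpace (stage D (A.ι ≫ u) j) := compactSpace_stage D _ j
  have : QuasiCompact (φ ≫ toStage D (B.ι ≫ v) j) := quasiCompact_of_compactSpace _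
  have : LocallyOfFinitePresentation (φ ≫ toStage D (B.ι ≫ v) j) := by
    rw [hφ]; exact MorphismProperty.of_isPullback (isPullback_stage D (A.ι ≫ u) j) inferInstance
  have hXφ : IsPullback (proj D (A.ι ≫ u) c hA' j) (𝟙 (U ⊓ V).toScheme) φ (proj D (B.ι ≫ v) c hB' j) := by
    refine IsPullback.of_bot ?_ (hφp.trans (Category.id_comp _).symm) (isPullback_proj D (B.ι ≫ v) c hB' j)
    rw [Category.id_comp, hφ]
    exact isPullback_proj D (A.ι ≫ u) c hA' j
  obtain ⟨j', hj'⟩ := LimMore.exists_isIso D c hc (f₀ := φ) (g₀ := toStage D (B.ι ≫ v) j)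
    (isPullback_proj D (B.ι ≫ v) c hB' j) hXφ
  -- open immersions at the last stage
  let iA : stage D (A.ι ≫ u) j ⟶ stage D u j := mapStage D A.ι (A.ι ≫ u) u rfl j
  let iB : stage D (B.ι ≫ v) j ⟶ stage D v j := mapStage D B.ι (B.ι ≫ v) v rfl j
  have : IsOpenImmersion iA :=
    MorphismProperty.of_isPullback (P := @IsOpenImmersion) (isPullback_mapStage D A.ι (A.ι ≫ u) u rfl j) inferInstance
  have : IsOpenImmersion iB :=
    MorphismProperty.of_isPullback (P := @IsOpenImmersion) (isPullback_mapStage D B.ι (B.ι ≫ v) v rfl j) inferInstance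
  have wA : iA ≫ toStage D u j = φ ≫ toStage D (B.ι ≫ v) j := by rw [hφ]; exact mapStage_toStage D _ _ _ _ j
  have wB : iB ≫ toStage D v j = toStage D (B.ι ≫ v) j := mapStage_toStage D _ _ _ _ j
  let f := mapStage D iA (φ ≫ toStage D (B.ι ≫ v) j) (toStage D u j) wA j'
  let fB := mapStage D iB (toStage D (B.ι ≫ v) j) (toStage D v j) wB j'
  let g := stageMap D (toStage D (B.ι ≫ v) j) φ j' ≫ fB
  have : IsOpenImmersion f :=
    MorphismProperty.of_isPullback (P := @IsOpenImmersion) (isPullback_mapStage D _ _ _ wA j') inferInstance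
  have : IsOpenImmersion fB :=
    MorphismProperty.of_isPullback (P := @IsOpenImmersion) (isPullback_mapStage D _ _ _ wB j') inferInstance
  have : IsOpenImmersion g := inferInstanceAs (IsOpenImmersion (_ ≫ _))
  obtain ⟨hu1, hu2, hu3⟩ := stage_props D u j
  obtain ⟨hv1, hv2, hv3⟩ := stage_props D v j
  let um := toStage D (toStage D u j) j'
  let vm := toStage D (toStage D v j) j'
  obtain ⟨hum1, hum2, hum3⟩ := stage_props D (toStage D u j) j'
  obtain ⟨hvm1, hvm2, hvm3⟩ := stage_props D (toStage D v j) j'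
  have hw : f ≫ um = g ≫ vm := by
    simp only [f, g, fB, um, vm, Category.assoc, mapStage_toStage, stageMap_toStage]
  let P : Scheme.{u} := pushout f g
  let q : P ⟶ D.obj j'.left := pushout.desc um vm hw
  have := isOpenImmersion_inl f g
  have := isOpenImmersion_inr f g
  let 𝒬 : P.OpenCover := Scheme.Cover.mkOfCovers (ULift.{u} Bool)
    (fun b => cond b.down (stage D (toStage D u j) j') (stage D (toStage D v j) j'))
    (fun b => match b with | ⟨true⟩ => pushout.inl f g | ⟨false⟩ => pushout.inr f g)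
    (fun x => by
      rcases (inl_range_sup_inr_range f g).ge (Set.mem_univ x) with ⟨y, hy⟩ | ⟨y, hy⟩
      · exact ⟨⟨true⟩, y, hy⟩
      · exact ⟨⟨false⟩, y, hy⟩)
    (fun b => by rcases b with ⟨_ | _⟩ <;> simp only <;> infer_instance)
  have hq1 : pushout.inl f g ≫ q = um := pushout.inl_desc _ _ _
  have hq2 : pushout.inr f g ≫ q = vm := pushout.inr_desc _ _ _
  have hqlfp : LocallyOfFinitePresentation q := by
    refine IsZariskiLocalAtSource.of_openCover (P := @LocallyOfFinitePresentation) 𝒬 ?_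
    rintro ⟨_ | _⟩
    · show LocallyOfFinitePresentation (pushout.inr f g ≫ q); rwa [hq2]
    · show LocallyOfFinitePresentation (pushout.inl f g ≫ q); rwa [hq1]
  have : CompactSpace (stage D (toStage D u j) j') := QuasiCompact.compactSpace_of_compactSpace um
  have : CompactSpace (stage D (toStage D v j) j') := QuasiCompact.compactSpace_of_compactSpace vm
  have : QuasiSeparatedSpace (stage D (toStage D u j) j') := quasiSeparatedSpace_of_quasiSeparated um
  have : QuasiSeparatedSpace (stage D (toStage D v j) j') := quasiSeparatedSpace_of_quasiSeparated vm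
  have : CompactSpace (stage D (φ ≫ toStage D (B.ι ≫ v) j) j') := compactSpace_stage D _ j'
  have : CompactSpace P := ⟨(inl_range_sup_inr_range f g) ▸
    (isCompact_range (pushout.inl f g).continuous).union (isCompact_range (pushout.inr f g).continuous)⟩
  have : QuasiSeparatedSpace P := quasiSeparatedSpace_pushout f g
  -- the limit
  have hU₁ := isPullback_proj D u c hU j
  have hV₁ := isPullback_proj D v c hV j
  have hU₂ := isPullback_proj D (toStage D u j) c hU₁ j'
  have hV₂ := isPullback_proj D (toStage D v j) c hV₁ j'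
  let pU := proj D (toStage D u j) c hU₁ j'
  let pV := proj D (toStage D v j) c hV₁ j'
  have hA₁ : IsPullback (proj D (A.ι ≫ u) c hA' j) ((U ⊓ V).ι ≫ a) (φ ≫ toStage D (B.ι ≫ v) j) (c.π.app j.left) := by
    rw [hφ]; exact isPullback_proj D (A.ι ≫ u) c hA' j
  let pW := proj D (φ ≫ toStage D (B.ι ≫ v) j) c hA₁ j'
  have hcU : pW ≫ f = X.homOfLE (inf_le_left : U ⊓ V ≤ U) ≫ pU :=
    proj_mapStage D iA _ _ wA c hA₁ hU₁ _ (by
      exact (proj_mapStage D A.ι (A.ι ≫ u) u rfl c hA' hU _ hgA.symm (by simp) j).symm) (by simp) j'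
  have hcV : pW ≫ g = X.homOfLE (inf_le_right : U ⊓ V ≤ V) ≫ pV := by
    have e1 : pW ≫ stageMap D (toStage D (B.ι ≫ v) j) φ j' =
        proj D (toStage D (B.ι ≫ v) j) c (isPullback_proj D (B.ι ≫ v) c hB' j) j' :=
      (proj_stageMap D (toStage D (B.ι ≫ v) j) c (isPullback_proj D (B.ι ≫ v) c hB' j) φ hXφ j').trans
        (Category.id_comp _)
    show pW ≫ stageMap D (toStage D (B.ι ≫ v) j) φ j' ≫ fB = _
    rw [reassoc_of% e1]
    exact proj_mapStage D iB _ _ wB c (isPullback_proj D (B.ι ≫ v) c hB' j) hV₁ _ (by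
      exact (proj_mapStage D B.ι (B.ι ≫ v) v rfl c hB' hV _ hgB.symm (by simp) j).symm) (by simp) j'
  let 𝒳 : X.OpenCover := Scheme.Cover.mkOfCovers (ULift.{u} Bool)
    (fun b => cond b.down U.toScheme V.toScheme)
    (fun b => match b with | ⟨true⟩ => U.ι | ⟨false⟩ => V.ι)
    (fun x => by
      rcases (huv.ge (Set.mem_univ x) : x ∈ U ⊔ V) with h | h
      · exact ⟨⟨true⟩, ⟨x, h⟩, rfl⟩
      · exact ⟨⟨false⟩, ⟨x, h⟩, rfl⟩)
    (fun b => by rcases b with ⟨_ | _⟩ <;> simp only <;> infer_instance)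
  have hglue : pullback.fst U.ι V.ι ≫ pU ≫ pushout.inl f g = pullback.snd U.ι V.ι ≫ pV ≫ pushout.inr f g := by
    rw [← cancel_epi (isPullback_opens_inf U V).isoPullback.hom, IsPullback.isoPullback_hom_fst_assoc,
      IsPullback.isoPullback_hom_snd_assoc, ← reassoc_of% hcU, ← reassoc_of% hcV, pushout.condition]
  let G : X ⟶ P := 𝒳.glueMorphisms
    (fun b => match b with | ⟨true⟩ => pU ≫ pushout.inl f g | ⟨false⟩ => pV ≫ pushout.inr f g) (by
      rintro ⟨_ | _⟩ ⟨_ | _⟩
      · show pullback.fst V.ι V.ι ≫ _ = pullback.snd V.ι V.ι ≫ _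
        rw [fst_eq_snd_of_mono_eq]
      · show pullback.fst V.ι U.ι ≫ pV ≫ pushout.inr f g = pullback.snd V.ι U.ι ≫ pU ≫ pushout.inl f g
        rw [← cancel_epi (pullbackSymmetry U.ι V.ι).hom, pullbackSymmetry_hom_comp_fst_assoc,
          pullbackSymmetry_hom_comp_snd_assoc, hglue]
      · exact hglue
      · show pullback.fst U.ι U.ι ≫ _ = pullback.snd U.ι U.ι ≫ _
        rw [fst_eq_snd_of_mono_eq])
  have hGU : U.ι ≫ G = pU ≫ pushout.inl f g := 𝒳.ι_glueMorphisms _ _ ⟨true⟩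
  have hGV : V.ι ≫ G = pV ≫ pushout.inr f g := 𝒳.ι_glueMorphisms _ _ ⟨false⟩
  have hmemB : ∀ y : V.toScheme, pV y ∈ Set.range g → y.1 ∈ U := by
    rintro y ⟨z, hz⟩
    have e : g ≫ toBase D (toStage D v j) j' ≫ toBase D v j = stageMap D (toStage D (B.ι ≫ v) j) φ j' ≫
        toBase D (toStage D (B.ι ≫ v) j) j' ≫ toBase D (B.ι ≫ v) j ≫ B.ι := by
      simp only [g, fB, iB, Category.assoc, mapStage_toBase_assoc, mapStage_toBase]
    have hy : gV y ∈ B := by
      rw [← proj_toBase D v c hV j, ← proj_toBase D (toStage D v j) c hV₁ j', Category.assoc, Scheme.Hom.comp_apply]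
      show _ ∈ (B : Set Vk)
      rw [← hz, ← Scheme.Hom.comp_apply, e, ← Category.assoc, ← Category.assoc, Scheme.Hom.comp_apply,
        ← Scheme.Opens.range_ι]
      exact Set.mem_range_self _
    exact (hB.le (show y ∈ gV ⁻¹ᵁ B from hy) : y.1 ∈ U ⊓ V).1
  have hmemA : ∀ y : U.toScheme, pU y ∈ Set.range f → y.1 ∈ V := by
    rintro y ⟨z, hz⟩
    have e : f ≫ toBase D (toStage D u j) j' ≫ toBase D u j =
        toBase D (φ ≫ toStage D (B.ι ≫ v) j) j' ≫ toBase D (A.ι ≫ u) j ≫ A.ι := by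
      simp only [f, iA, mapStage_toBase_assoc, mapStage_toBase]
    have hy : gU y ∈ A := by
      rw [← proj_toBase D u c hU j, ← proj_toBase D (toStage D u j) c hU₁ j', Category.assoc, Scheme.Hom.comp_apply]
      show _ ∈ (A : Set Uk)
      rw [← hz, ← Scheme.Hom.comp_apply, e, ← Category.assoc, Scheme.Hom.comp_apply, ← Scheme.Opens.range_ι]
      exact Set.mem_range_self _
    exact (hA.le (show y ∈ gU ⁻¹ᵁ A from hy) : y.1 ∈ U ⊓ V).2
  have hsU : IsPullback pU U.ι (pushout.inl f g) G := by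
    refine IsOpenImmersion.isPullback _ _ _ _ hGU (TopologicalSpace.Opens.ext (Set.ext fun x => ⟨?_, ?_⟩))
    · rintro ⟨z, hz⟩
      rw [Scheme.Opens.opensRange_ι]
      rcases (huv.ge (Set.mem_univ x) : x ∈ U ⊔ V) with h | h
      · exact h
      · obtain ⟨t, -, ht⟩ := exists_of_inl_eq_inr f g (hz.trans (congr($hGV (⟨x, h⟩ : V.toScheme))))
        exact hmemB ⟨x, h⟩ ⟨t, ht⟩
    · intro h
      rw [Scheme.Opens.opensRange_ι] at h
      exact ⟨pU ⟨x, h⟩, (congr($hGU (⟨x, h⟩ : U.toScheme))).symm⟩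
  have hsV : IsPullback pV V.ι (pushout.inr f g) G := by
    refine IsOpenImmersion.isPullback _ _ _ _ hGV (TopologicalSpace.Opens.ext (Set.ext fun x => ⟨?_, ?_⟩))
    · rintro ⟨z, hz⟩
      rw [Scheme.Opens.opensRange_ι]
      rcases (huv.ge (Set.mem_univ x) : x ∈ U ⊔ V) with h | h
      · obtain ⟨t, ht, -⟩ := exists_of_inl_eq_inr f g ((congr($hGU (⟨x, h⟩ : U.toScheme))).symm.trans hz.symm)
        exact hmemA ⟨x, h⟩ ⟨t, ht⟩
      · exact h
    · intro h
      rw [Scheme.Opens.opensRange_ι] at h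
      exact ⟨pV ⟨x, h⟩, (congr($hGV (⟨x, h⟩ : V.toScheme))).symm⟩
  refine ⟨j'.left, P, q, G, hqlfp, quasiCompact_of_compactSpace _, QuasiSeparated.of_quasiSeparatedSpace _, ?_⟩
  refine Scheme.isPullback_of_openCover G a q (c.π.app j'.left) 𝒬 ?_
  rintro ⟨_ | _⟩
  · show IsPullback (pullback.snd G (pushout.inr f g)) (pullback.fst G (pushout.inr f g) ≫ a) (pushout.inr f g ≫ q) (c.π.app j'.left)
    rw [hq2]
    exact hV₂.of_iso hsV.flip.isoPullback (Iso.refl _) (Iso.refl _) (Iso.refl _) (by simp [pV]) (by simp) (by simp [vm]) (by simp)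
  · show IsPullback (pullback.snd G (pushout.inl f g)) (pullback.fst G (pushout.inl f g) ≫ a) (pushout.inl f g ≫ q) (c.π.app j'.left)
    rw [hq1]
    exact hU₂.of_iso hsU.flip.isoPullback (Iso.refl _) (Iso.refl _) (Iso.refl _) (by simp [pU]) (by simp) (by simp [um]) (by simp)

include hc in
/-- gluing two models -/
theorem hasModel_of_two (U V : X.Opens) (huv : U ⊔ V = ⊤) (hWc : IsCompact ((U ⊓ V : X.Opens) : Set X))
    (h1 : HasModel D c (U.ι ≫ a)) (h2 : HasModel D c (V.ι ≫ a)) : HasModel D c a := by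
  obtain ⟨j₁, U₁, u₁, gU₁, hu, hu', hu'', hU₁⟩ := h1
  obtain ⟨j₂, V₂, v₂, gV₂, hv, hv', hv'', hV₂⟩ := h2
  obtain ⟨k, e₁, e₂, -⟩ := IsCofilteredOrEmpty.cone_objs j₁ j₂
  obtain ⟨_, _, _⟩ := stage_props D u₁ (Over.mk e₁)
  obtain ⟨_, _, _⟩ := stage_props D v₂ (Over.mk e₂)
  let u := toStage D u₁ (Over.mk e₁)
  let v := toStage D v₂ (Over.mk e₂)
  have hU := isPullback_proj D u₁ c hU₁ (Over.mk e₁)
  have hV := isPullback_proj D v₂ c hV₂ (Over.mk e₂)
  have : CompactSpace (stage D u₁ (Over.mk e₁)) := QuasiCompact.compactSpace_of_compactSpace u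
  have : CompactSpace (stage D v₂ (Over.mk e₂)) := QuasiCompact.compactSpace_of_compactSpace v
  have : QuasiSeparatedSpace (stage D u₁ (Over.mk e₁)) := quasiSeparatedSpace_of_quasiSeparated u
  have : QuasiSeparatedSpace (stage D v₂ (Over.mk e₂)) := quasiSeparatedSpace_of_quasiSeparated v
  have : ∀ l, CompactSpace ((tower D u).obj l) := fun l => compactSpace_stage D u l
  have : ∀ l, CompactSpace ((tower D v).obj l) := fun l => compactSpace_stage D v l
  have : ∀ l, QuasiSeparatedSpace ((tower D u).obj l) := fun l => quasiSeparatedSpace_stage D u l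
  have : ∀ l, QuasiSeparatedSpace ((tower D v).obj l) := fun l => quasiSeparatedSpace_stage D v l
  obtain ⟨l₁, A₁, hA₁, hA₁'⟩ := exists_preimage_eq (tower D u) (towerCone D u c hU) (isLimitTowerCone D u c hU hc)
    (U.ι ⁻¹ᵁ (U ⊓ V)) (U.ι.isOpenEmbedding.isInducing.isCompact_preimage' hWc
      (by rw [Scheme.Opens.range_ι]; exact fun x hx => hx.1))
  obtain ⟨l₂, B₂, hB₂, hB₂'⟩ := exists_preimage_eq (tower D v) (towerCone D v c hV) (isLimitTowerCone D v c hV hc)
    (V.ι ⁻¹ᵁ (U ⊓ V)) (V.ι.isOpenEmbedding.isInducing.isCompact_preimage' hWc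
      (by rw [Scheme.Opens.range_ι]; exact fun x hx => hx.2))
  obtain ⟨l, d₁, d₂, -⟩ := IsCofilteredOrEmpty.cone_objs l₁ l₂
  obtain ⟨_, _, _⟩ := stage_props D u l
  obtain ⟨_, _, _⟩ := stage_props D v l
  have := isAffineHom_tower_map D u d₁
  have := isAffineHom_tower_map D v d₂
  refine hasModel_of_two_aux D c hc a U V huv (toStage D u l) (toStage D v l) (isPullback_proj D u c hU l)
    (isPullback_proj D v c hV l) ((tower D u).map d₁ ⁻¹ᵁ A₁) ((tower D v).map d₂ ⁻¹ᵁ B₂)
    (QuasiCompact.isCompact_preimage _ A₁.2 hA₁) (QuasiCompact.isCompact_preimage _ B₂.2 hB₂) ?_ ?_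
  · exact Eq.trans (congrArg (· ⁻¹ᵁ A₁) ((towerCone D u c hU).w d₁)) hA₁'
  · exact Eq.trans (congrArg (· ⁻¹ᵁ B₂) ((towerCone D v c hV).w d₂)) hB₂'

include hc in
/-- **Schemes of finite presentation over a limit come from a stage.** -/
theorem exists_model [LocallyOfFinitePresentation a] [QuasiCompact a] [QuasiSeparated a] : HasModel D c a := by
  classical
  have := Scheme.compactSpace_of_isLimit D c hc
  have : CompactSpace X := QuasiCompact.compactSpace_of_compactSpace a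
  have i₀ : I := IsCofiltered.nonempty.some
  have := isAffineHom_π_app D c hc i₀
  have : QuasiSeparatedSpace c.pt := quasiSeparatedSpace_of_quasiSeparated (c.π.app i₀)
  have : QuasiSeparatedSpace X := quasiSeparatedSpace_of_quasiSeparated a
  have hsmall : ∀ x : X, ∃ V : X.Opens, IsAffineOpen V ∧ x ∈ V ∧ HasModel D c (V.ι ≫ a) := by
    intro x
    obtain ⟨_, ⟨_, ⟨i, W, hW, rfl⟩, rfl⟩, hxW, -⟩ :=
      (isBasis_preimage_isAffineOpen D c hc).exists_subset_of_mem_open (Set.mem_univ (a x)) isOpen_univ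
    obtain ⟨_, ⟨V, hV, rfl⟩, hxV, hVW⟩ := X.isBasis_affineOpens.exists_subset_of_mem_open
      (show x ∈ ((a ⁻¹ᵁ (c.π.app i ⁻¹ᵁ W) : X.Opens) : Set X) from hxW) (a ⁻¹ᵁ (c.π.app i ⁻¹ᵁ W)).2
    exact ⟨V, hV, hxV, hasModel_of_isAffineOpen D c hc a hW hV hVW⟩
  choose V hVa hxV hVm using hsmall
  obtain ⟨t, ht⟩ := CompactSpace.elim_nhds_subcover (fun x => (V x : Set X))
    (fun x => (V x).2.mem_nhds (hxV x))
  have key : ∀ s : Finset X, IsCompact ((s.sup V : X.Opens) : Set X) ∧ HasModel D c ((s.sup V).ι ≫ a) := by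
    intro s
    induction s using Finset.induction with
    | empty =>
      rw [Finset.sup_empty]
      exact ⟨isCompact_empty, hasModel_of_isAffineOpen D c hc a (i := i₀) (isAffineOpen_bot _) (isAffineOpen_bot _) bot_le⟩
    | insert x s _ ih =>
      rw [Finset.sup_insert]
      obtain ⟨hc', hm⟩ := ih
      refine ⟨by rw [TopologicalSpace.Opens.coe_sup]; exact (hVa x).isCompact.union hc', ?_⟩
      let S : X.Opens := V x ⊔ s.sup V
      let e₁ : (S.ι ⁻¹ᵁ V x).toScheme ≅ (V x).toScheme :=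
        S.ι.isoImage _ ≪≫ X.isoOfEq ((S.functor_map_eq_inf _).trans (inf_eq_left.mpr le_sup_left))
      let e₂ : (S.ι ⁻¹ᵁ s.sup V).toScheme ≅ (s.sup V).toScheme :=
        S.ι.isoImage _ ≪≫ X.isoOfEq ((S.functor_map_eq_inf _).trans (inf_eq_left.mpr le_sup_right))
      refine hasModel_of_two D c hc (S.ι ≫ a) (S.ι ⁻¹ᵁ V x) (S.ι ⁻¹ᵁ s.sup V) ?_ ?_ ?_ ?_
      · rw [← Scheme.Hom.preimage_sup]; exact S.ι_preimage_self
      · rw [← Scheme.Hom.preimage_inf]
        show IsCompact (S.ι ⁻¹' ((V x : Set X) ∩ (s.sup V : X.Opens)))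
        refine S.ι.isOpenEmbedding.isInducing.isCompact_preimage' ?_ ?_
        · exact QuasiSeparatedSpace.inter_isCompact _ _ (V x).2 (hVa x).isCompact (s.sup V).2 hc'
        · rw [Scheme.Opens.range_ι]; exact fun y hy => Or.inl hy.1
      · have := HasModel.of_iso D c e₁ (hVm x)
        simpa [e₁] using this
      · have := HasModel.of_iso D c e₂ hm
        simpa [e₂] using this
  have htop : t.sup V = ⊤ := top_le_iff.mp fun y _ => by
    obtain ⟨x, hx, hyx⟩ := Set.mem_iUnion₂.1 (ht.ge (Set.mem_univ y))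
    exact Finset.le_sup (f := V) hx hyx
  have h := (key t).2
  rw [htop] at h
  have h' := HasModel.of_iso D c X.topIso.symm h
  simpa using h'

end Groth.Agent.LimModel
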