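import Groth.Agent.LimModel.Main
import Groth.Agent.LimMore.Local
import Groth.Agent.LimMore.OverBase
import Mathlib.AlgebraicGeometry.Morphisms.FlatMono

/-!
Models with properties, and descent of coverings.
-/

set_option autoImplicit false
universe u
open CategoryTheory CategoryTheory.Limits AlgebraicGeometry

namespace Groth.Agent.LimModel

variable {I : Type u} [SmallCategory I] [IsCofiltered I] (D : I ⥤ Scheme.{u})
  [∀ {i j} (f : i ⟶ j), IsAffineHom (D.map f)]
  [∀ i, CompactSpace (D.obj i)] [∀ i, QuasiSeparatedSpace (D.obj i)]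
variable (c : Cone D) (hc : IsLimit c) {X : Scheme.{u}} (a : X ⟶ c.pt)

include hc in
/-- models having a property -/
theorem exists_model_prop (P : MorphismProperty Scheme.{u}) [P.RespectsIso] (hP : LimMore.DescendsToStage.{u} P)
    [LocallyOfFinitePresentation a] [QuasiCompact a] [QuasiSeparated a] (h : P a) :
    ∃ (j : I) (Xj : Scheme.{u}) (fj : Xj ⟶ D.obj j) (g : X ⟶ Xj),
      P fj ∧ LocallyOfFinitePresentation fj ∧ QuasiCompact fj ∧ QuasiSeparated fj ∧ IsPullback g a fj (c.π.app j) := by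
  obtain ⟨i, Xi, fi, g, h1, h2, h3, h4⟩ := exists_model D c hc a
  have : CompactSpace Xi := QuasiCompact.compactSpace_of_compactSpace fi
  obtain ⟨j, hj⟩ := hP D c hc fi (𝟙 _) (LimMore.isPullback_id D c) h4 h
  have h5 := (LimMore.stageMap_id_iff D fi P j).1 hj
  have hsq := LimDesc.isPullback_proj D fi c h4 j
  exact ⟨j.left, LimDesc.stage D fi j, LimDesc.toStage D fi j, LimDesc.proj D fi c h4 j, h5,
    MorphismProperty.of_isPullback (P := @LocallyOfFinitePresentation) (LimDesc.isPullback_stage D fi j) h1,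
    MorphismProperty.of_isPullback (P := @QuasiCompact) (LimDesc.isPullback_stage D fi j) h2,
    MorphismProperty.of_isPullback (P := @QuasiSeparated) (LimDesc.isPullback_stage D fi j) h3, hsq⟩

theorem descendsToStage_openImmersion {I : Type u} [SmallCategory I] [IsCofiltered I] (D : I ⥤ Scheme.{u})
    [∀ {i j} (f : i ⟶ j), IsAffineHom (D.map f)] {i₀ : I} (c : Cone D) (hc : IsLimit c)
    {X₀ : Scheme.{u}} (f₀ : X₀ ⟶ D.obj i₀) [CompactSpace (D.obj i₀)]
    [LocallyOfFinitePresentation f₀] [QuasiCompact f₀]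
    {X : Scheme.{u}} {a : X ⟶ c.pt} {g : X ⟶ X₀} (h : IsPullback g a f₀ (c.π.app i₀)) [IsOpenImmersion a] :
    ∃ j : Over i₀, IsOpenImmersion (LimDesc.toStage D f₀ j) := by
  have : CompactSpace X₀ := QuasiCompact.compactSpace_of_compactSpace f₀
  have : LocallyOfFiniteType (f₀ ≫ 𝟙 (D.obj i₀)) := by rw [Category.comp_id]; infer_instance
  have : QuasiCompact (f₀ ≫ 𝟙 (D.obj i₀)) := by rw [Category.comp_id]; infer_instance
  obtain ⟨j₁, h₁⟩ := LimMore.descendsToStage_flat D c hc f₀ (𝟙 _) (LimMore.isPullback_id D c) h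
    (inferInstance : Flat a)
  obtain ⟨j₂, h₂⟩ := LimDesc.exists_mono D c hc f₀ (𝟙 _) (LimMore.isPullback_id D c) h
  obtain ⟨l, e₁, e₂, -⟩ := IsCofilteredOrEmpty.cone_objs j₁ j₂
  refine ⟨l, ?_⟩
  have hl := MorphismProperty.of_isPullback (P := @Flat) (LimDesc.isPullback_trans_stageMap D (𝟙 _) f₀ e₁) h₁
  have hm := MorphismProperty.of_isPullback (P := MorphismProperty.monomorphisms Scheme.{u})
    (LimDesc.isPullback_trans_stageMap D (𝟙 _) f₀ e₂) h₂
  have := (LimMore.stageMap_id_iff D f₀ @Flat l).1 hl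
  have : Mono (LimDesc.toStage D f₀ l) :=
    (LimMore.stageMap_id_iff D f₀ (MorphismProperty.monomorphisms Scheme.{u}) l).1 hm
  have : LocallyOfFinitePresentation (LimDesc.toStage D f₀ l) :=
    MorphismProperty.of_isPullback (P := @LocallyOfFinitePresentation) (LimDesc.isPullback_stage D f₀ l) inferInstance
  exact IsOpenImmersion.of_flat_of_mono _

end Groth.Agent.LimModel

namespace Groth.Agent.LimModel

variable {I : Type u} [SmallCategory I] [IsCofiltered I] (D : I ⥤ Scheme.{u})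
  [∀ {i j} (f : i ⟶ j), IsAffineHom (D.map f)]

/-- coverings descend -/
theorem exists_cover (c : Cone D) (hc : IsLimit c) (i₀ : I) [CompactSpace (D.obj i₀)]
    [QuasiSeparatedSpace (D.obj i₀)] (P : MorphismProperty Scheme.{u}) [P.IsStableUnderBaseChange]
    (hPf : P ≤ @Flat)
    {ι : Type u} (U : ι → Scheme.{u}) (u : ∀ a, U a ⟶ c.pt)
    [∀ a, Flat (u a)] [∀ a, LocallyOfFinitePresentation (u a)] [∀ a, QuasiCompact (u a)] [∀ a, QuasiSeparated (u a)]
    (hP : ∀ a {J : Type u} [SmallCategory J] [IsCofiltered J] (E : J ⥤ Scheme.{u})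
      [∀ {i j} (f : i ⟶ j), IsAffineHom (E.map f)] [∀ i, CompactSpace (E.obj i)] [∀ i, QuasiSeparatedSpace (E.obj i)]
      (d : Cone E) (_ : IsLimit d) (e : d.pt ≅ c.pt),
      ∃ (j : J) (Xj : Scheme.{u}) (fj : Xj ⟶ E.obj j) (g : U a ⟶ Xj),
        P fj ∧ LocallyOfFinitePresentation fj ∧ QuasiCompact fj ∧ QuasiSeparated fj ∧
          IsPullback g (u a ≫ e.inv) fj (d.π.app j))
    (hcov : ∀ x : c.pt, ∃ (a : ι) (y : U a), (u a).base y = x) :
    ∃ (i : I) (n : ℕ) (V : Fin n → Scheme.{u}) (v : ∀ j, V j ⟶ D.obj i) (a : Fin n → ι)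
      (e : ∀ j, U (a j) ⟶ V j),
      (∀ j, P (v j) ∧ LocallyOfFinitePresentation (v j) ∧ QuasiCompact (v j) ∧ QuasiSeparated (v j)) ∧
      (∀ x : D.obj i, ∃ (j : Fin n) (y : V j), (v j).base y = x) ∧
      ∀ j, IsPullback (e j) (u (a j)) (v j) (c.π.app i) := by
  classical
  let D' : Over i₀ ⥤ Scheme.{u} := Over.forget i₀ ⋙ D
  let c' : Cone D' := Cone.whisker (Over.forget i₀) c
  have hc' : IsLimit c' := (Functor.Initial.isLimitWhiskerEquiv (Over.forget i₀) c).symm hc
  have : ∀ {a b : Over i₀} (f : a ⟶ b), IsAffineHom (D'.map f) := fun f => inferInstanceAs (IsAffineHom (D.map f.left))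
  have : ∀ l : Over i₀, CompactSpace (D'.obj l) := fun l =>
    QuasiCompact.compactSpace_of_compactSpace (D.map l.hom)
  have : ∀ l : Over i₀, QuasiSeparatedSpace (D'.obj l) := fun l =>
    quasiSeparatedSpace_of_quasiSeparated (D.map l.hom)
  have : CompactSpace c.pt := Scheme.compactSpace_of_isLimit D' c' hc'
  obtain ⟨s, hs⟩ := isCompact_univ.elim_finite_subcover (fun a => Set.range (u a))
    (fun a => (u a).isOpenMap.isOpen_range) (fun x _ => by
      obtain ⟨a, y, hy⟩ := hcov x; exact Set.mem_iUnion.2 ⟨a, y, hy⟩)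
  choose j X fj g h1 h2 h3 h4 h5 using fun a => hP a D' c' hc' (Iso.refl _)
  obtain ⟨m, hm⟩ := IsCofiltered.inf_objs_exists (insert (Over.mk (𝟙 i₀)) (s.image j))
  let φ : ∀ a : s, m ⟶ j a.1 := fun a =>
    (hm (Finset.mem_insert_of_mem (Finset.mem_image_of_mem j a.2))).some
  let v : ∀ a : s, LimDesc.stage D' (fj a.1) (Over.mk (φ a)) ⟶ D'.obj m := fun a => LimDesc.toStage D' (fj a.1) (Over.mk (φ a))
  have hv : ∀ a, P (v a) ∧ LocallyOfFinitePresentation (v a) ∧ QuasiCompact (v a) ∧ QuasiSeparated (v a) := fun a =>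
    ⟨P.of_isPullback (LimDesc.isPullback_stage _ _ _) (h1 a.1),
      MorphismProperty.of_isPullback (P := @LocallyOfFinitePresentation) (LimDesc.isPullback_stage _ _ _) (h2 a.1),
      MorphismProperty.of_isPullback (P := @QuasiCompact) (LimDesc.isPullback_stage _ _ _) (h3 a.1),
      MorphismProperty.of_isPullback (P := @QuasiSeparated) (LimDesc.isPullback_stage _ _ _) (h4 a.1)⟩
  let gv := fun a : s => LimDesc.proj D' (fj a.1) c' (h5 a.1) (Over.mk (φ a))
  have hsq : ∀ a : s, IsPullback (gv a) (u a.1) (v a) (c.π.app m.left) := fun a => by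
    have h := LimDesc.isPullback_proj D' (fj a.1) c' (h5 a.1) (Over.mk (φ a))
    simp only [Iso.refl_inv, Category.comp_id] at h
    exact h
  have hopen : ∀ a : s, IsOpen (Set.range (v a)) := fun a => by
    obtain ⟨hp, hl, -, -⟩ := hv a
    have : Flat (v a) := hPf _ hp
    exact (v a).isOpenMap.isOpen_range
  obtain ⟨n', f, hf⟩ := exists_map_eq_top D' c' hc' (i := m) ⟨⋃ a : s, Set.range (v a), isOpen_iUnion hopen⟩ (by
    refine eq_top_iff.2 fun x _ => ?_
    obtain ⟨a, ha, y, hy⟩ := Set.mem_iUnion₂.1 (hs (Set.mem_univ (show c.pt from x)))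
    refine Set.mem_iUnion.2 ⟨⟨a, ha⟩, gv ⟨a, ha⟩ y, ?_⟩
    show v ⟨a, ha⟩ (gv ⟨a, ha⟩ y) = c.π.app m.left (show c.pt from x)
    rw [← Scheme.Hom.comp_apply, (hsq ⟨a, ha⟩).w, Scheme.Hom.comp_apply, hy]
    rfl)
  let w : Fin s.card → s := s.equivFin.symm
  refine ⟨n'.left, s.card, fun k => LimDesc.stage D' (v (w k)) (Over.mk f), fun k => LimDesc.toStage D' (v (w k)) (Over.mk f),
    fun k => (w k).1, fun k => LimDesc.proj D' (v (w k)) c' (hsq (w k)) (Over.mk f), fun k => ?_, fun x => ?_, fun k => ?_⟩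
  · obtain ⟨p1, p2, p3, p4⟩ := hv (w k)
    exact ⟨P.of_isPullback (LimDesc.isPullback_stage _ _ _) p1,
      MorphismProperty.of_isPullback (P := @LocallyOfFinitePresentation) (LimDesc.isPullback_stage _ _ _) p2,
      MorphismProperty.of_isPullback (P := @QuasiCompact) (LimDesc.isPullback_stage _ _ _) p3,
      MorphismProperty.of_isPullback (P := @QuasiSeparated) (LimDesc.isPullback_stage _ _ _) p4⟩
  · obtain ⟨a, z, hz⟩ := Set.mem_iUnion.1 (hf.ge (Set.mem_univ (show D'.obj n' from x)))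
    obtain ⟨k, rfl⟩ := s.equivFin.symm.surjective a
    obtain ⟨y, -, hy⟩ := Scheme.exists_preimage_of_isPullback (LimDesc.isPullback_stage D' (v (w k)) (Over.mk f)) z x hz
    exact ⟨k, y, hy⟩
  · exact LimDesc.isPullback_proj D' (v (w k)) c' (hsq (w k)) (Over.mk f)

end Groth.Agent.LimModel
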