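import Groth.Agent.RingModel.Basic
import Groth.Agent.LimDesc.Tower

/-!
Models of affine schemes of finite presentation over a cofiltered limit.
-/

set_option autoImplicit false
universe u
open CategoryTheory CategoryTheory.Limits AlgebraicGeometry

namespace Groth.Agent.LimModel

variable {I : Type u} [SmallCategory I] [IsCofiltered I] (D : I ⥤ Scheme.{u}) (c : Cone D)

/-- a morphism into the limit comes from a stage -/
def HasModel {U : Scheme.{u}} (b : U ⟶ c.pt) : Prop :=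
  ∃ (j : I) (Xj : Scheme.{u}) (fj : Xj ⟶ D.obj j) (g : U ⟶ Xj),
    LocallyOfFinitePresentation fj ∧ QuasiCompact fj ∧ QuasiSeparated fj ∧ IsPullback g b fj (c.π.app j)

theorem hlift_sections (E : I ⥤ Scheme.{u}) (d : Cone E) (hd : IsLimit d) [∀ i, IsAffine (E.obj i)]
    (s : Finset Γ(d.pt, ⊤)) : ∃ j, ∀ a ∈ s, ∃ y : Γ(E.obj j, ⊤), (d.π.app j).appTop.hom y = a := by
  classical
  induction s using Finset.induction with
  | empty => exact ⟨IsCofiltered.nonempty.some, by simp⟩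
  | insert a s _ ih =>
    obtain ⟨j, hj⟩ := ih
    obtain ⟨k, y, hy⟩ := exists_appTop_π_eq_of_isAffine_of_isLimit E d hd a
    refine ⟨IsCofiltered.min j k, fun b hb => ?_⟩
    rcases Finset.mem_insert.1 hb with rfl | hb
    · exact ⟨(E.map (IsCofiltered.minToRight j k)).appTop y, by
        rw [← CommRingCat.comp_apply, ← Scheme.Hom.comp_appTop, d.w]; exact hy⟩
    · obtain ⟨z, hz⟩ := hj b hb
      exact ⟨(E.map (IsCofiltered.minToLeft j k)).appTop z, by
        rw [← CommRingCat.comp_apply, ← Scheme.Hom.comp_appTop, d.w]; exact hz⟩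

theorem heq_sections (E : I ⥤ Scheme.{u}) (d : Cone E) (hd : IsLimit d) [∀ i, IsAffine (E.obj i)]
    (j : I) (y : Γ(E.obj j, ⊤)) (hy : (d.π.app j).appTop.hom y = 0) :
    ∃ (k : I) (h : Γ(E.obj j, ⊤) →+* Γ(E.obj k, ⊤)),
      ((d.π.app k).appTop.hom : _ →+* Γ(d.pt, ⊤)).comp h = (d.π.app j).appTop.hom ∧ h y = 0 := by
  obtain ⟨k, f, hf⟩ := exists_appTop_map_eq_zero_of_isAffine_of_isLimit E d hd j y hy
  refine ⟨k, (E.map f).appTop.hom, ?_, hf⟩
  rw [← d.w f, Scheme.Hom.comp_appTop]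
  rfl

/-- the affine case over an affine system -/
theorem exists_model_of_isAffine (E : I ⥤ Scheme.{u}) (d : Cone E) (hd : IsLimit d) [∀ i, IsAffine (E.obj i)]
    [IsAffine d.pt] {V : Scheme.{u}} [IsAffine V] (b : V ⟶ d.pt) [LocallyOfFinitePresentation b] :
    ∃ (j : I) (Xj : Scheme.{u}) (fj : Xj ⟶ E.obj j) (g : V ⟶ Xj),
      IsAffine Xj ∧ LocallyOfFinitePresentation fj ∧ IsPullback g b fj (d.π.app j) := by
  have hfp : b.appTop.hom.FinitePresentation :=
    (HasRingHomProperty.iff_of_isAffine (P := @LocallyOfFinitePresentation)).1 inferInstance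
  algebraize [b.appTop.hom]
  obtain ⟨i, Bi, _, _, hQ, hB⟩ := RingModel.exists_stage_model (A := Γ(d.pt, ⊤)) (B := Γ(V, ⊤))
    (fun R S [CommRing R] [CommRing S] [Algebra R S] => Algebra.FinitePresentation R S)
    (fun R S T _ _ _ _ _ h => inferInstance) RingModel.exists_subalgebra_fp
    (fun i => Γ(E.obj i, ⊤)) (fun i => ((d.π.app i).appTop.hom : Γ(E.obj i, ⊤) →+* Γ(d.pt, ⊤)))
    (hlift_sections E d hd) (heq_sections E d hd)
  letI : Algebra Γ(E.obj i, ⊤) Γ(d.pt, ⊤) := (d.π.app i).appTop.hom.toAlgebra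
  obtain ⟨e⟩ := hB
  let inr : CommRingCat.of Bi ⟶ Γ(V, ⊤) := CommRingCat.ofHom
    (e.symm.toRingHom.comp (Algebra.TensorProduct.includeRight (R := Γ(E.obj i, ⊤)) (A := Γ(d.pt, ⊤))).toRingHom)
  have hpo : IsPushout (d.π.app i).appTop (CommRingCat.ofHom (algebraMap Γ(E.obj i, ⊤) Bi)) b.appTop inr := by
    refine (CommRingCat.isPushout_tensorProduct Γ(E.obj i, ⊤) Γ(d.pt, ⊤) Bi).of_iso (Iso.refl _) (Iso.refl _)
      (Iso.refl _) e.symm.toRingEquiv.toCommRingCatIso (by simp; rfl) (by simp) ?_ (by ext; simp [inr])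
    ext x
    exact e.symm.commutes x
  have hs := (isPullback_SpecMap_of_isPushout _ _ _ _ hpo).flip
  let fj : Spec (CommRingCat.of Bi) ⟶ E.obj i :=
    Spec.map (CommRingCat.ofHom (algebraMap Γ(E.obj i, ⊤) Bi)) ≫ (E.obj i).isoSpec.inv
  refine ⟨i, Spec (CommRingCat.of Bi), fj, V.isoSpec.hom ≫ Spec.map inr, inferInstance, ?_, ?_⟩
  · have : LocallyOfFinitePresentation (Spec.map (CommRingCat.ofHom (algebraMap Γ(E.obj i, ⊤) Bi))) :=
      (HasRingHomProperty.Spec_iff (P := @LocallyOfFinitePresentation)).2 (RingHom.finitePresentation_algebraMap.2 hQ)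
    infer_instance
  · refine hs.of_iso V.isoSpec.symm (Iso.refl _) d.pt.isoSpec.symm (E.obj i).isoSpec.symm (by simp) ?_ ?_ ?_
    · exact Scheme.isoSpec_inv_naturality b
    · simp [fj]
    · exact Scheme.isoSpec_inv_naturality (X := d.pt) (Y := E.obj i) (d.π.app i)

end Groth.Agent.LimModel
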